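import Cfsg.Agent.Lib.Helper86.Quartic.Basic

set_option autoImplicit false
set_option linter.unusedSectionVars false

/-! Abelian groups of order `p ^ 4` with Frattini subgroup of order `p`. -/

namespace Cfsg.Agent.Lib.Helper86.Quartic

open Cfsg Cfsg.Agent.Lib Cfsg.Agent.Lib.Helper16.Ess

variable {P : Type*} [Group P] [Finite P] {p : ℕ} [hp : Fact p.Prime]

theorem card_frattini_subgroup (hP : IsPGroup p P) (hΦ : Nat.card (frattini P) = p) (M : Subgroup P)
    (hne : frattini M ≠ ⊥) : Nat.card (frattini M) = p := by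
  have h1 : frattini M ≤ (frattini P).subgroupOf M := by
    apply Helper52.frattini_le_of (p := p)
    · intro x y
      rw [Subgroup.mem_subgroupOf]
      exact comm_mem_frattini hP (x : P) (y : P)
    · intro x
      rw [Subgroup.mem_subgroupOf]
      exact Helper3.pow_p_mem_frattini hP (x : P)
  have h2 : Nat.card (frattini M) ≤ p := by
    refine (Subgroup.card_le_of_le h1).trans ?_
    rw [← Subgroup.card_map_of_injective M.subtype_injective, Subgroup.subgroupOf_map_subtype, ← hΦ]
    exact Subgroup.card_le_of_le inf_le_left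
  obtain ⟨j, hj⟩ := ((hP.to_subgroup M).to_subgroup (frattini M)).exists_card_eq
  have hj0 : j ≠ 0 := by
    rintro rfl
    rw [pow_zero] at hj
    exact hne (Subgroup.card_eq_one.1 hj)
  apply le_antisymm h2
  rw [hj]
  calc p = p ^ 1 := (pow_one p).symm
    _ ≤ p ^ j := Nat.pow_le_pow_right hp.out.pos (by omega)

theorem pow_zmod (c : Multiplicative (ZMod p)) : c ^ p = 1 := by
  have h := pow_card_eq_one' (x := c)
  rwa [Nat.card_eq_fintype_card, Fintype.card_multiplicative, ZMod.card] at h

theorem abelian_step (hP : IsPGroup p P) {n : ℕ} (hn : 2 ≤ n) (hcard : Nat.card P = p ^ (n + 1))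
    (hΦ : Nat.card (frattini P) = p) (hab : ∀ x y : P, x * y = y * x) :
    ∃ M : Subgroup P, Nat.card M = p ^ n ∧ Nat.card (frattini M) = p ∧
      Nonempty (P ≃* M × Multiplicative (ZMod p)) := by
  have hp1 := hp.out.one_lt
  let φ : P →* P :=
    { toFun := fun x => x ^ p
      map_one' := one_pow p
      map_mul' := fun x y => (show Commute x y from hab x y).mul_pow p }
  have h1 := Subgroup.card_mul_index φ.ker
  rw [Subgroup.index_ker, hcard] at h1
  have h2 : Nat.card φ.range ≤ p := by
    rw [← hΦ]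
    apply Subgroup.card_le_of_le
    rintro _ ⟨x, rfl⟩
    exact Helper3.pow_p_mem_frattini hP x
  have h3 : p ^ n ≤ Nat.card φ.ker := by
    have h4 : p ^ n * p ≤ Nat.card φ.ker * p := by
      rw [← pow_succ, ← h1]
      exact Nat.mul_le_mul_left _ h2
    exact Nat.le_of_mul_le_mul_right h4 hp.out.pos
  obtain ⟨t, htk, htΦ⟩ : ∃ t ∈ φ.ker, t ∉ frattini P := by
    by_contra hcon
    push Not at hcon
    have h4 : φ.ker ≤ frattini P := hcon
    have h5 := Subgroup.card_le_of_le h4
    rw [hΦ] at h5
    have : p < p ^ n := by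
      calc p = p ^ 1 := (pow_one p).symm
        _ < p ^ n := Nat.pow_lt_pow_right hp1 (by omega)
    omega
  have htp : t ^ p = 1 := htk
  obtain ⟨M, hidx, htM, ⟨e⟩⟩ := exists_split hP
    (Subgroup.mem_center_iff.2 (fun g => hab g t)) htp htΦ
  have hcM : Nat.card M = p ^ n := by
    have h4 := Subgroup.card_mul_index M
    rw [hidx, hcard, pow_succ] at h4
    exact Nat.eq_of_mul_eq_mul_right hp.out.pos h4
  refine ⟨M, hcM, card_frattini_subgroup hP hΦ M ?_, ⟨e⟩⟩
  intro hb
  have hM : ∀ m : M, m ^ p = 1 := by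
    intro m
    have := Helper3.pow_p_mem_frattini (hP.to_subgroup M) m
    rwa [hb, Subgroup.mem_bot] at this
  have hall : ∀ g : P, g ^ p = 1 := by
    intro g
    apply e.injective
    rw [map_pow, map_one]
    exact Prod.ext (hM _) (pow_zmod _)
  have h4 : frattini P ≤ ⊥ := by
    apply Helper52.frattini_le_of (p := p)
    · intro x y
      rw [Subgroup.mem_bot, hab x y]
      group
    · intro x
      rw [Subgroup.mem_bot]
      exact hall x
  rw [le_bot_iff] at h4
  rw [h4, Subgroup.card_bot] at hΦ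
  omega

theorem cyclic_of_sq (hcard : Nat.card P = p ^ 2) (hΦ : Nat.card (frattini P) = p) :
    Nonempty (P ≃* Multiplicative (ZMod (p ^ 2))) := by
  have hp1 := hp.out.one_lt
  have hab := (IsPGroup.isMulCommutative_of_card_eq_prime_sq hcard).is_comm.comm
  obtain ⟨x, hx⟩ : ∃ x : P, x ^ p ≠ 1 := by
    by_contra hcon
    push Not at hcon
    have h4 : frattini P ≤ ⊥ := by
      apply Helper52.frattini_le_of (p := p)
      · intro x y
        rw [Subgroup.mem_bot, hab x y]
        group
      · intro x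
        rw [Subgroup.mem_bot]
        exact hcon x
    rw [le_bot_iff] at h4
    rw [h4, Subgroup.card_bot] at hΦ
    omega
  have hx2 : x ^ p ^ 2 = 1 := by rw [← hcard]; exact pow_card_eq_one'
  have ho : orderOf x = p ^ 2 :=
    orderOf_eq_prime_pow (p := p) (n := 1) (x := x) (by simpa using hx) (by simpa using hx2)
  have hcyc : IsCyclic P := isCyclic_of_orderOf_eq_card x (by rw [ho, hcard])
  have : NeZero (p ^ 2) := ⟨(pow_pos hp.out.pos 2).ne'⟩
  exact ⟨mulEquivOfCyclicCardEq
    (by rw [hcard, Nat.card_eq_fintype_card, Fintype.card_multiplicative, ZMod.card])⟩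

/-- Abelian groups of order `p ^ 4` with Frattini subgroup of order `p`. -/
theorem iso_of_abelian (hP : IsPGroup p P) (hcard : Nat.card P = p ^ 4)
    (hΦ : Nat.card (frattini P) = p) (hab : ∀ x y : P, x * y = y * x) :
    Nonempty (P ≃* Multiplicative (ZMod (p ^ 2) × ZMod p × ZMod p)) := by
  obtain ⟨M, hcM, hΦM, ⟨e⟩⟩ := abelian_step hP (n := 3) (by norm_num) hcard hΦ hab
  obtain ⟨M', hcM', hΦM', ⟨e'⟩⟩ := abelian_step (hP.to_subgroup M) (n := 2) (by norm_num) hcM hΦM
    (fun x y => Subtype.ext (hab x y))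
  obtain ⟨e''⟩ := cyclic_of_sq hcM' hΦM'
  have f1 : P ≃* (Multiplicative (ZMod (p ^ 2)) × Multiplicative (ZMod p)) × Multiplicative (ZMod p) :=
    e.trans (MulEquiv.prodCongr (e'.trans (MulEquiv.prodCongr e'' (MulEquiv.refl _))) (MulEquiv.refl _))
  have f2 := f1.trans MulEquiv.prodAssoc
  have f3 : Multiplicative (ZMod (p ^ 2) × ZMod p × ZMod p) ≃*
      Multiplicative (ZMod (p ^ 2)) × (Multiplicative (ZMod p) × Multiplicative (ZMod p)) :=
    (MulEquiv.prodMultiplicative (G := ZMod (p ^ 2)) (H := ZMod p × ZMod p)).trans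
      (MulEquiv.prodCongr (MulEquiv.refl _) (MulEquiv.prodMultiplicative (G := ZMod p) (H := ZMod p)))
  exact ⟨f2.trans f3.symm⟩

end Cfsg.Agent.Lib.Helper86.Quartic
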