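import Cfsg.Agent.Lib.Helper16.Ess.Cube
import Cfsg.Agent.Lib.Helper52.Frat

set_option autoImplicit false
set_option linter.unusedSectionVars false

/-! Groups of order `p ^ 4`: basic tools (characteristic flags of length three, commutator homomorphisms, splitting off
a central direct factor of order `p`). -/

namespace Cfsg.Agent.Lib.Helper86.Quartic

open Cfsg Cfsg.FusionSystem Cfsg.Agent.Lib Cfsg.Agent.Lib.Helper16.Ess

/-- Characteristic subgroups `Φ(P) ≤ M₁ ≤ M₂` with all three steps of index at most `p`. -/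
def HasFlag3 (p : ℕ) (P : Type*) [Group P] : Prop :=
  ∃ M₁ M₂ : Subgroup P, M₁.Characteristic ∧ M₂.Characteristic ∧ frattini P ≤ M₁ ∧ M₁ ≤ M₂ ∧
    Nat.card M₁ ≤ p * Nat.card (frattini P) ∧ Nat.card M₂ ≤ p * Nat.card M₁ ∧
    Nat.card P ≤ p * Nat.card M₂

theorem no_flag3 {Ω : Type*} [Group Ω] {S : Subgroup Ω} [Finite S] {p : ℕ} [hp : Fact p.Prime]
    (hS : IsPGroup p S) (F : FusionSystem S) (hF : F.IsSaturated p) {P : Subgroup Ω}
    (hP : F.IsEssential p P) : ¬ HasFlag3 p ↥P := by
  rintro ⟨M₁, M₂, hM₁, hM₂, hle, h12, h1, h2, h3⟩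
  let X : ℕ → Subgroup P := fun i => match i with
    | 0 => frattini P
    | 1 => M₁
    | 2 => M₂
    | _ => ⊤
  refine no_flag hS F hF hP 3 X rfl rfl ?_ ?_ ?_
  · intro i hi
    match i, hi with
    | 0, _ => exact hle
    | 1, _ => exact h12
    | 2, _ => exact le_top
  · intro i α _ x hx
    match i with
    | 0 => exact Helper77.aut_mem_frattini α hx
    | 1 =>
      have := (Subgroup.characteristic_iff_map_le.1 hM₁) α
      exact this ⟨x, hx, rfl⟩
    | 2 =>
      have := (Subgroup.characteristic_iff_map_le.1 hM₂) α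
      exact this ⟨x, hx, rfl⟩
    | (n + 3) => exact Subgroup.mem_top _
  · intro i hi
    match i, hi with
    | 0, _ => exact h1
    | 1, _ => exact h2
    | 2, _ =>
      show Nat.card (⊤ : Subgroup P) ≤ p * Nat.card M₂
      rw [Subgroup.card_top]
      exact h3

variable {P : Type*} [Group P] [Finite P] {p : ℕ} [hp : Fact p.Prime]

/-- The commutator homomorphism: if all `[g, w]` lie in a central subgroup `A`, then `|P : C_P(w)| ≤ |A|`. -/
theorem index_centralizer_le {A : Subgroup P} (hA : A ≤ Subgroup.center P) (w : P)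
    (h : ∀ g : P, g * w * g⁻¹ * w⁻¹ ∈ A) : (Subgroup.centralizer {w}).index ≤ Nat.card A := by
  let φ : P →* P :=
    { toFun := fun g => g * w * g⁻¹ * w⁻¹
      map_one' := by group
      map_mul' := fun a b => by
        have hc := Subgroup.mem_center_iff.1 (hA (h b))
        calc a * b * w * (a * b)⁻¹ * w⁻¹ = a * (b * w * b⁻¹ * w⁻¹) * (w * a⁻¹ * w⁻¹) := by group
          _ = (b * w * b⁻¹ * w⁻¹) * a * (w * a⁻¹ * w⁻¹) := by rw [hc a]
          _ = (b * w * b⁻¹ * w⁻¹) * (a * w * a⁻¹ * w⁻¹) := by group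
          _ = (a * w * a⁻¹ * w⁻¹) * (b * w * b⁻¹ * w⁻¹) := (hc _).symm }
  have hker : φ.ker = Subgroup.centralizer {w} := by
    ext g
    rw [MonoidHom.mem_ker, Subgroup.mem_centralizer_singleton_iff]
    show g * w * g⁻¹ * w⁻¹ = 1 ↔ _
    constructor
    · intro h1
      calc g * w = (g * w * g⁻¹ * w⁻¹) * (w * g) := by group
        _ = w * g := by rw [h1, one_mul]
    · intro h1
      rw [h1]
      group
  rw [← hker, Subgroup.index_ker]
  apply Subgroup.card_le_of_le
  rintro _ ⟨g, rfl⟩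
  exact h g

/-- Orders in a chain of subgroups of a `p`-group. -/
theorem card_eq_of_lt_lt (hP : IsPGroup p P) {A B C : Subgroup P} (hAB : A < B) (hBC : B < C) {a : ℕ}
    (hA : Nat.card A = p ^ a) (hC : Nat.card C = p ^ (a + 2)) : Nat.card B = p ^ (a + 1) := by
  obtain ⟨b, hb⟩ := (hP.to_subgroup B).exists_card_eq
  have h1 := Helper86.card_lt_of_lt hAB
  have h2 := Helper86.card_lt_of_lt hBC
  rw [hA, hb] at h1
  rw [hb, hC] at h2
  have h3 := (Nat.pow_lt_pow_iff_right hp.out.one_lt).1 h1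
  have h4 := (Nat.pow_lt_pow_iff_right hp.out.one_lt).1 h2
  rw [hb]
  congr 1
  omega

theorem eq_of_lt_le (hP : IsPGroup p P) {A B C : Subgroup P} (hAB : A < B) (hBC : B ≤ C)
    (hcard : Nat.card C ≤ p * Nat.card A) : B = C := by
  obtain ⟨a, ha⟩ := (hP.to_subgroup A).exists_card_eq
  obtain ⟨b, hb⟩ := (hP.to_subgroup B).exists_card_eq
  have h1 := Helper86.card_lt_of_lt hAB
  rw [ha, hb] at h1
  have h3 := (Nat.pow_lt_pow_iff_right hp.out.one_lt).1 h1
  apply Subgroup.eq_of_le_of_card_ge hBC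
  rw [hb]
  calc Nat.card C ≤ p * Nat.card A := hcard
    _ = p ^ (a + 1) := by rw [ha, pow_succ']
    _ ≤ p ^ b := Nat.pow_le_pow_right hp.out.pos h3

theorem card_le_of_ne_top (hP : IsPGroup p P) {n : ℕ} (hcard : Nat.card P = p ^ (n + 1)) {M : Subgroup P}
    (hM : M ≠ ⊤) : Nat.card M ≤ p ^ n := by
  obtain ⟨b, hb⟩ := (hP.to_subgroup M).exists_card_eq
  have h1 : Nat.card M < Nat.card P := by
    have := Helper86.card_lt_of_lt (lt_top_iff_ne_top.2 hM)
    rwa [Subgroup.card_top] at this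
  rw [hb, hcard] at h1
  have h3 := (Nat.pow_lt_pow_iff_right hp.out.one_lt).1 h1
  rw [hb]
  exact Nat.pow_le_pow_right hp.out.pos (by omega)

theorem exists_coatom_of_not_mem {t : P} (ht : t ∉ frattini P) : ∃ M : Subgroup P, IsCoatom M ∧ t ∉ M := by
  by_contra hcon
  push Not at hcon
  apply ht
  unfold frattini Order.radical
  rw [Subgroup.mem_iInf]
  intro M
  rw [Subgroup.mem_iInf]
  intro hM
  exact hcon M hM

/-- Splitting off a central subgroup of order `p` outside the Frattini subgroup. -/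
theorem exists_split (hP : IsPGroup p P) {t : P} (htZ : t ∈ Subgroup.center P) (htp : t ^ p = 1)
    (htΦ : t ∉ frattini P) :
    ∃ M : Subgroup P, M.index = p ∧ t ∉ M ∧ Nonempty (P ≃* M × Multiplicative (ZMod p)) := by
  obtain ⟨M, hM, htM⟩ := exists_coatom_of_not_mem htΦ
  have hidx := Helper3.coatom_index hP hM
  refine ⟨M, hidx, htM, ?_⟩
  have ht1 : t ≠ 1 := fun h => htM (h ▸ M.one_mem)
  have hot : orderOf t = p := orderOf_eq_prime htp ht1
  have hcT : Nat.card (Subgroup.zpowers t) = p := by rw [Nat.card_zpowers, hot]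
  have hcomm : ∀ (m : M) (z : Subgroup.zpowers t), Commute (M.subtype m) ((Subgroup.zpowers t).subtype z) := by
    rintro m ⟨z, hz⟩
    have hzZ : z ∈ Subgroup.center P := (Subgroup.zpowers_le.2 htZ) hz
    exact Subgroup.mem_center_iff.1 hzZ m
  let f : M × Subgroup.zpowers t →* P := MonoidHom.noncommCoprod M.subtype (Subgroup.zpowers t).subtype hcomm
  have hinf : ∀ z ∈ Subgroup.zpowers t, z ∈ M → z = 1 := by
    intro z hz hzM
    by_contra hz1
    apply htM
    have h1 : Subgroup.zpowers z = Subgroup.zpowers t := by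
      apply Subgroup.eq_of_le_of_card_ge (Subgroup.zpowers_le.2 hz)
      rw [hcT, Nat.card_zpowers]
      have h2 : orderOf z ∣ p := by
        rw [← hcT]
        have := orderOf_dvd_natCard (⟨z, hz⟩ : Subgroup.zpowers t)
        rwa [Subgroup.orderOf_mk] at this
      rcases (Nat.dvd_prime hp.out).1 h2 with h3 | h3
      · exact absurd (orderOf_eq_one_iff.1 h3) hz1
      · exact h3.ge
    have : t ∈ Subgroup.zpowers z := h1 ▸ Subgroup.mem_zpowers t
    exact (Subgroup.zpowers_le.2 hzM) this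
  have hinj : Function.Injective f := by
    rw [injective_iff_map_eq_one]
    rintro ⟨m, z⟩ h
    have h1 : (m : P) * (z : P) = 1 := h
    have h2 : (z : P) = (m : P)⁻¹ := (eq_inv_of_mul_eq_one_right h1)
    have h3 : (z : P) = 1 := hinf z z.2 (h2 ▸ M.inv_mem m.2)
    have h4 : (m : P) = 1 := by rwa [h3, mul_one] at h1
    exact Prod.ext (Subtype.ext h4) (Subtype.ext h3)
  have hbij : Function.Bijective f := by
    apply hinj.bijective_of_nat_card_le
    rw [Nat.card_prod, hcT, ← hidx, Subgroup.card_mul_index]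
  have e1 : M × Subgroup.zpowers t ≃* P := MulEquiv.ofBijective f hbij
  have e2 : Subgroup.zpowers t ≃* Multiplicative (ZMod p) :=
    mulEquivOfPrimeCardEq hcT (by rw [Nat.card_eq_fintype_card, Fintype.card_multiplicative, ZMod.card])
  exact ⟨e1.symm.trans (MulEquiv.prodCongr (MulEquiv.refl M) e2)⟩

/-- A finite group has an isomorphic copy in the lowest universe. -/
theorem exists_small_model (Q : Type*) [Group Q] [Finite Q] :
    ∃ (E : Type) (_ : Group E) (_ : Finite E), Nonempty (Q ≃* E) := by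
  exact ⟨Shrink.{0} Q, inferInstance, inferInstance, ⟨(Shrink.mulEquiv.{0} (α := Q)).symm⟩⟩

end Cfsg.Agent.Lib.Helper86.Quartic
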