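import Cfsg.Agent.Lib.Helper86.Quartic.Basic
import Cfsg.Agent.Lib.Helper72.CommBound

set_option autoImplicit false
set_option linter.unusedSectionVars false

/-! Non-abelian groups of order `p ^ 4` with Frattini subgroup of order `p ^ 2` have a characteristic maximal
subgroup. -/

namespace Cfsg.Agent.Lib.Helper86.Quartic

open Cfsg Cfsg.Agent.Lib Cfsg.Agent.Lib.Helper16.Ess
open scoped commutatorElement

variable {P : Type*} [Group P] [Finite P] {p : ℕ} [hp : Fact p.Prime]

theorem flag_of_char (hP : IsPGroup p P) (hcard : Nat.card P = p ^ 4) (hΦ : Nat.card (frattini P) = p ^ 2)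
    (M : Subgroup P) (hMc : M.Characteristic) (hΦM : frattini P ≤ M) (hM : M ≠ ⊤) (hidx : M.index ≤ p) :
    HasFlag3 p P := by
  refine ⟨frattini P, M, inferInstance, hMc, le_rfl, hΦM, Nat.le_mul_of_pos_left _ hp.out.pos, ?_, ?_⟩
  · rw [hΦ, ← pow_succ']
    exact card_le_of_ne_top hP hcard hM
  · rw [← Subgroup.card_mul_index M, mul_comm]
    exact Nat.mul_le_mul_right _ hidx

theorem flag_caseA (hP : IsPGroup p P) (hcard : Nat.card P = p ^ 4) (hΦ : Nat.card (frattini P) = p ^ 2)
    (hnc : ¬ frattini P ≤ Subgroup.center P) : HasFlag3 p P := by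
  obtain ⟨w, hwΦ, hwZ⟩ := SetLike.not_le_iff_exists.1 hnc
  have hp1 := hp.out.one_lt
  have hΦne : frattini P ≠ ⊥ := by
    intro h
    rw [h, Subgroup.card_bot] at hΦ
    have : 1 < p ^ 2 := Nat.one_lt_pow (by norm_num) hp1
    omega
  obtain ⟨N₁, hN₁⟩ : ∃ N₁ : Subgroup P, N₁ = frattini P ⊓ Subgroup.center P := ⟨_, rfl⟩
  have hN₁n : N₁.Normal := by rw [hN₁]; infer_instance
  have hN₁Φ : N₁ ≤ frattini P := hN₁ ▸ inf_le_left
  have hN₁Z : N₁ ≤ Subgroup.center P := hN₁ ▸ inf_le_right
  have hN₁ne : N₁ ≠ ⊥ := hN₁ ▸ Helper3.normal_inf_center_ne_bot' hP (frattini P) hΦne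
  have hN₁lt : N₁ < frattini P := lt_of_le_of_ne hN₁Φ (fun h => hnc (h ▸ hN₁Z))
  have hcN₁ : Nat.card N₁ = p := by
    have := card_eq_of_lt_lt hP (bot_lt_iff_ne_bot.2 hN₁ne) hN₁lt (a := 0) (by simp) (by simpa using hΦ)
    simpa using this
  have hcle : Nat.card (frattini P) ≤ p * Nat.card N₁ := by rw [hΦ, hcN₁, sq]
  have hcomm : ∀ g : P, g * w * g⁻¹ * w⁻¹ ∈ N₁ := fun g =>
    comm_mem_of_card_le hP N₁ (frattini P) hN₁Φ hcle w hwΦ g
  have hidx := index_centralizer_le hN₁Z w hcomm
  rw [hcN₁] at hidx
  have hab : ∀ a ∈ frattini P, ∀ b ∈ frattini P, a * b = b * a := by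
    intro a ha b hb
    have := (IsPGroup.isMulCommutative_of_card_eq_prime_sq hΦ).is_comm.comm ⟨a, ha⟩ ⟨b, hb⟩
    exact congrArg Subtype.val this
  have hle : Subgroup.centralizer {w} ≤ Subgroup.centralizer (frattini P : Set P) := by
    intro g hg
    rw [Subgroup.mem_centralizer_singleton_iff] at hg
    have hlt : N₁ < frattini P ⊓ Subgroup.centralizer {g} := by
      refine lt_of_le_of_ne (le_inf hN₁Φ ?_) ?_
      · intro z hz
        rw [Subgroup.mem_centralizer_singleton_iff]
        exact (Subgroup.mem_center_iff.1 (hN₁Z hz) g).symm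
      · intro h
        apply hwZ
        apply hN₁Z
        rw [h]
        exact Subgroup.mem_inf.2 ⟨hwΦ, Subgroup.mem_centralizer_singleton_iff.2 hg.symm⟩
    have hK := eq_of_lt_le hP hlt inf_le_left hcle
    rw [Subgroup.mem_centralizer_iff]
    intro a ha
    have h1 : a ∈ frattini P ⊓ Subgroup.centralizer {g} := by
      rw [hK]
      exact ha
    exact Subgroup.mem_centralizer_singleton_iff.1 (Subgroup.mem_inf.1 h1).2
  refine flag_of_char hP hcard hΦ (Subgroup.centralizer (frattini P : Set P)) inferInstance ?_ ?_ ?_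
  · intro a ha
    rw [Subgroup.mem_centralizer_iff]
    intro b hb
    exact hab b hb a ha
  · intro h
    apply hwZ
    rw [Subgroup.mem_center_iff]
    intro g
    have h1 : g ∈ Subgroup.centralizer (frattini P : Set P) := h ▸ Subgroup.mem_top g
    rw [Subgroup.mem_centralizer_iff] at h1
    exact (h1 w hwΦ).symm
  · exact (Nat.le_of_dvd (Nat.pos_of_ne_zero Subgroup.index_ne_zero_of_finite)
      (Subgroup.index_dvd_of_le hle)).trans hidx

theorem flag_caseB (hP : IsPGroup p P) (hcard : Nat.card P = p ^ 4) (hΦ : Nat.card (frattini P) = p ^ 2)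
    (hc : frattini P ≤ Subgroup.center P) (hna : ∃ x y : P, x * y ≠ y * x) : HasFlag3 p P := by
  have hp1 := hp.out.one_lt
  have hAΦ : commutator P ≤ frattini P := Helper3.commutator_le_frattini hP
  have hidxΦ : (frattini P).index = p ^ 2 := by
    have h1 := Subgroup.card_mul_index (frattini P)
    rw [hΦ, hcard] at h1
    have : p ^ 2 * (frattini P).index = p ^ 2 * p ^ 2 := by rw [h1]; ring
    exact Nat.eq_of_mul_eq_mul_left (pow_pos hp.out.pos 2) this
  have hA1 : Nat.card (commutator P) ≤ p := by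
    have h1 := Helper72.card_commutator_le_of_index hP 2 (frattini P) hAΦ hidxΦ
    have h2 : Helper72.cm (frattini P) = ⊥ := by
      rw [Helper72.cm, Subgroup.commutator_eq_bot_iff_le_centralizer]
      intro z hz
      rw [Subgroup.mem_centralizer_iff]
      intro g _
      exact Subgroup.mem_center_iff.1 (hc hz) g
    rw [h2, Subgroup.card_bot] at h1
    simpa using h1
  have hAne : commutator P ≠ ⊥ := by
    intro h
    obtain ⟨x, y, hne⟩ := hna
    apply hne
    have h1 : ⁅x, y⁆ ∈ commutator P :=
      Subgroup.commutator_mem_commutator (Subgroup.mem_top x) (Subgroup.mem_top y)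
    rw [h, Subgroup.mem_bot, commutatorElement_eq_one_iff_mul_comm] at h1
    exact h1
  have hcA : Nat.card (commutator P) = p := by
    obtain ⟨j, hj⟩ := (hP.to_subgroup (commutator P)).exists_card_eq
    have hj0 : j ≠ 0 := by
      rintro rfl
      rw [pow_zero] at hj
      exact hAne (Subgroup.card_eq_one.1 hj)
    apply le_antisymm hA1
    rw [hj]
    calc p = p ^ 1 := (pow_one p).symm
      _ ≤ p ^ j := Nat.pow_le_pow_right hp.out.pos (by omega)
  let ψ : P →* Abelianization P := (powMonoidHom p).comp Abelianization.of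
  have hmem : ∀ g : P, g ∈ ψ.ker ↔ g ^ p ∈ commutator P := by
    intro g
    rw [MonoidHom.mem_ker, ← Abelianization.ker_of, MonoidHom.mem_ker, map_pow]
    rfl
  have hchar : ψ.ker.Characteristic := by
    rw [Subgroup.characteristic_iff_le_comap]
    intro α g hg
    rw [Subgroup.mem_comap, hmem]
    rw [hmem] at hg
    have h1 : (commutator P).Characteristic := inferInstance
    have h2 := (Subgroup.characteristic_iff_map_le.1 h1) α
    have h3 : α (g ^ p) ∈ commutator P := h2 ⟨g ^ p, hg, rfl⟩
    rw [map_pow] at h3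
    exact h3
  have hne : ψ.ker ≠ ⊤ := by
    intro h
    have h1 : frattini P ≤ commutator P := by
      apply Helper52.frattini_le_of (p := p)
      · intro x y
        exact Subgroup.commutator_mem_commutator (Subgroup.mem_top x) (Subgroup.mem_top y)
      · intro x
        exact (hmem x).1 (h ▸ Subgroup.mem_top x)
    have h2 := Subgroup.card_le_of_le h1
    rw [hΦ, hcA] at h2
    have : p < p ^ 2 := by
      calc p = p ^ 1 := (pow_one p).symm
        _ < p ^ 2 := Nat.pow_lt_pow_right hp1 (by norm_num)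
    omega
  have hidx : ψ.ker.index ≤ p := by
    rw [Subgroup.index_ker]
    let f : frattini P →* Abelianization P := Abelianization.of.comp (frattini P).subtype
    have h1 : ψ.range ≤ f.range := by
      rintro _ ⟨g, rfl⟩
      exact ⟨⟨g ^ p, Helper3.pow_p_mem_frattini hP g⟩, by
        show Abelianization.of (g ^ p) = (Abelianization.of g) ^ p
        rw [map_pow]⟩
    refine (Subgroup.card_le_of_le h1).trans ?_
    have h2 := Subgroup.card_mul_index f.ker
    rw [Subgroup.index_ker, hΦ] at h2
    have h3 : Nat.card f.ker = p := by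
      rw [← hcA]
      have h4 : f.ker = (commutator P).subgroupOf (frattini P) := by
        ext z
        rw [MonoidHom.mem_ker, Subgroup.mem_subgroupOf, ← Abelianization.ker_of, MonoidHom.mem_ker]
        rfl
      rw [h4]
      exact Nat.card_congr (Subgroup.subgroupOfEquivOfLe hAΦ).toEquiv
    rw [h3, sq] at h2
    exact (Nat.eq_of_mul_eq_mul_left hp.out.pos h2).le
  have hn : ψ.ker.Normal := inferInstance
  have hidx' : ψ.ker.index = p := by
    obtain ⟨j, hj⟩ := hP.index ψ.ker
    have hj0 : j ≠ 0 := by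
      rintro rfl
      rw [pow_zero] at hj
      exact hne (Subgroup.index_eq_one.1 hj)
    apply le_antisymm hidx
    rw [hj]
    calc p = p ^ 1 := (pow_one p).symm
      _ ≤ p ^ j := Nat.pow_le_pow_right hp.out.pos (by omega)
  refine flag_of_char hP hcard hΦ ψ.ker hchar ?_ hne hidx
  apply Helper52.frattini_le_of (p := p)
  · intro x y
    rw [hmem]
    exact (commutator P).pow_mem
      (Subgroup.commutator_mem_commutator (Subgroup.mem_top x) (Subgroup.mem_top y)) p
  · intro x
    have := Subgroup.pow_index_mem ψ.ker x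
    rwa [hidx'] at this

/-- Non-abelian groups of order `p ^ 4` with `|Φ| = p ^ 2`. -/
theorem flag_of_rank_two (hP : IsPGroup p P) (hcard : Nat.card P = p ^ 4)
    (hΦ : Nat.card (frattini P) = p ^ 2) (hna : ∃ x y : P, x * y ≠ y * x) : HasFlag3 p P := by
  by_cases hc : frattini P ≤ Subgroup.center P
  · exact flag_caseB hP hcard hΦ hc hna
  · exact flag_caseA hP hcard hΦ hc

end Cfsg.Agent.Lib.Helper86.Quartic
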