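import Cfsg.Agent.Lib.Helper86.Quartic.Two
import Cfsg.Agent.Lib.Helper86.Quartic.RankTwo
import Cfsg.Agent.S5187

set_option autoImplicit false
set_option linter.unusedSectionVars false

/-! Essential subgroups of order `p ^ 4`. -/

namespace Cfsg.Agent.Lib.Helper86.Quartic

open Cfsg Cfsg.FusionSystem Cfsg.Agent.Lib Cfsg.Agent.Lib.Helper16.Ess

universe u

theorem main {Ω : Type u} [Group Ω] {S : Subgroup Ω} [Finite S] (p : ℕ) [hp : Fact p.Prime] (hS : IsPGroup p S)
    (F : Cfsg.FusionSystem S) (hF : F.IsSaturated p) (H : Subgroup Ω) (hH : F.IsEssential p H)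
    (hcard : Nat.card H = p ^ 4) :
    Cfsg.IsElementaryAbelian p H ∨
      Nonempty (↥H ≃* Multiplicative (ZMod (p ^ 2) × ZMod p × ZMod p)) ∨
      ((p = 2 ∨ p = 3) ∧ Nonempty (↥H ≃* Multiplicative (ZMod (p ^ 2) × ZMod (p ^ 2)))) ∨
      (Odd p ∧ ∃ (E : Type) (_ : Group E) (_ : Finite E), Cfsg.IsExtraspecial p E ∧ Nat.card E = p ^ 3 ∧
        (∀ x : E, x ^ p = 1) ∧ Nonempty (↥H ≃* E × Multiplicative (ZMod p))) ∨
      (p = 2 ∧ Nonempty (↥H ≃* QuaternionGroup 2 × Multiplicative (ZMod 2))) ∨
      (¬ IsMulCommutative ↥H ∧ (∀ x ∈ H, x ^ (p ^ 2) = 1) ∧ IsCyclic ↥(Subgroup.center ↥H) ∧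
        Nat.card (Subgroup.center ↥H) = p ^ 2) := by
  have hHS : H ≤ S := hH.1.1
  have : Finite H := Helper86.finite_of_le hHS
  have hP : IsPGroup p H := hS.to_le hHS
  have hnf := no_flag3 hS F hF hH
  have hp1 := hp.out.one_lt
  obtain ⟨k, hk4, hk⟩ := (Nat.dvd_prime_pow hp.out).1
    (hcard ▸ Subgroup.card_subgroup_dvd_card (frattini H))
  by_cases hk3 : 3 ≤ k
  · exfalso
    apply hnf
    refine ⟨frattini H, frattini H, inferInstance, inferInstance, le_rfl, le_rfl,
      Nat.le_mul_of_pos_left _ hp.out.pos, Nat.le_mul_of_pos_left _ hp.out.pos, ?_⟩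
    rw [hcard, hk, ← pow_succ']
    exact Nat.pow_le_pow_right hp.out.pos (by omega)
  by_cases hk0 : k = 0
  · left
    rw [hk0, pow_zero] at hk
    have hb : frattini H = ⊥ := Subgroup.card_eq_one.1 hk
    refine ⟨⟨⟨fun x y => ?_⟩⟩, fun a ha => ?_⟩
    · have h1 := comm_mem_frattini hP x y
      rw [hb, Subgroup.mem_bot] at h1
      calc x * y = (x * y * x⁻¹ * y⁻¹) * (y * x) := by group
        _ = y * x := by rw [h1, one_mul]
    · have h1 := Helper3.pow_p_mem_frattini hP (⟨a, ha⟩ : H)
      rw [hb, Subgroup.mem_bot] at h1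
      exact congrArg Subtype.val h1
  by_cases hab : ∀ x y : H, x * y = y * x
  · by_cases hk1 : k = 1
    · right; left
      exact iso_of_abelian hP hcard (by rw [hk, hk1, pow_one]) hab
    · have hk2 : k = 2 := by omega
      subst hk2
      have hidx : (frattini H).index ≤ p ^ 2 := by
        have h1 := Subgroup.card_mul_index (frattini H)
        rw [hk, hcard] at h1
        have : p ^ 2 * (frattini H).index = p ^ 2 * p ^ 2 := by rw [h1]; ring
        exact (Nat.eq_of_mul_eq_mul_left (pow_pos hp.out.pos 2) this).le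
      rcases Cfsg.Agent.S5187.result p hS F hF H hH ⟨⟨hab⟩⟩ hidx with ⟨_, h2⟩ | ⟨hp3, j, ⟨e⟩⟩
      · exfalso
        rw [hcard] at h2
        have := Nat.pow_right_injective hp.out.two_le h2
        omega
      · right; right; left
        refine ⟨?_, ?_⟩
        · have := hp.out.two_le
          omega
        · have h1 : Nat.card H = p ^ j * p ^ j := by
            rw [Nat.card_congr e.toEquiv, Nat.card_congr Multiplicative.toAdd, Nat.card_prod, Nat.card_zmod]
          rw [hcard, ← pow_add] at h1
          have h2 := Nat.pow_right_injective hp.out.two_le h1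
          have hj : j = 2 := by omega
          subst hj
          exact ⟨e⟩
  · push Not at hab
    by_cases hk1 : k = 1
    · have hΦ : Nat.card (frattini H) = p := by rw [hk, hk1, pow_one]
      have hcZ := card_center hP hcard hΦ hab
      by_cases hcyc : IsCyclic (Subgroup.center H)
      · right; right; right; right; right
        refine ⟨?_, ?_, hcyc, hcZ⟩
        · intro h
          obtain ⟨x, y, hne⟩ := hab
          exact hne (h.is_comm.comm x y)
        · intro x hx
          have h1 := frattini_pow hΦ _ (Helper3.pow_p_mem_frattini hP (⟨x, hx⟩ : H))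
          rw [← pow_mul, ← sq] at h1
          exact congrArg Subtype.val h1
      · have hZe : ∀ z ∈ Subgroup.center H, z ^ p = 1 := fun z hz =>
          congrArg Subtype.val (pow_eq_one_of_not_cyclic hcZ hcyc ⟨z, hz⟩)
        by_cases hp2 : p = 2
        · subst hp2
          rcases two_case hP hcard hΦ hab hZe with h | h
          · exact absurd h hnf
          · exact Or.inr (Or.inr (Or.inr (Or.inr (Or.inl ⟨rfl, h⟩))))
        · rcases odd_case hP hcard hΦ hab hp2 hZe with h | h
          · exact absurd h hnf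
          · exact Or.inr (Or.inr (Or.inr (Or.inl ⟨hp.out.odd_of_ne_two hp2, h⟩)))
    · exfalso
      have hk2 : k = 2 := by omega
      subst hk2
      exact hnf (flag_of_rank_two hP hcard hk hab)

end Cfsg.Agent.Lib.Helper86.Quartic
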