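import Cfsg.Agent.Lib.Helper86.Quartic.Abelian

set_option autoImplicit false
set_option linter.unusedSectionVars false

/-! Non-abelian groups of order `p ^ 4` with Frattini subgroup of order `p`. -/

namespace Cfsg.Agent.Lib.Helper86.Quartic

open Cfsg Cfsg.Agent.Lib Cfsg.Agent.Lib.Helper16.Ess

variable {P : Type*} [Group P] [Finite P] {p : ℕ} [hp : Fact p.Prime]

theorem frattini_le_center (hP : IsPGroup p P) (hΦ : Nat.card (frattini P) = p) :
    frattini P ≤ Subgroup.center P := by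
  intro z hz
  rw [Subgroup.mem_center_iff]
  exact frattini_central hP hΦ z hz

theorem card_center (hP : IsPGroup p P) (hcard : Nat.card P = p ^ 4) (hΦ : Nat.card (frattini P) = p)
    (hna : ∃ x y : P, x * y ≠ y * x) : Nat.card (Subgroup.center P) = p ^ 2 := by
  obtain ⟨x, y, hxy⟩ := hna
  have hp1 := hp.out.one_lt
  have hΦZ := frattini_le_center hP hΦ
  have hix := index_centralizer_le hΦZ x (fun g => comm_mem_frattini hP g x)
  have hiy := index_centralizer_le hΦZ y (fun g => comm_mem_frattini hP g y)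
  rw [hΦ] at hix hiy
  obtain ⟨D, hD⟩ : ∃ D : Subgroup P, D = Subgroup.centralizer {x} ⊓ Subgroup.centralizer {y} := ⟨_, rfl⟩
  have hDx : D ≤ Subgroup.centralizer {x} := hD ▸ inf_le_left
  have hDy : D ≤ Subgroup.centralizer {y} := hD ▸ inf_le_right
  have hiD : D.index ≤ p * p := by
    rw [hD]
    exact Subgroup.index_inf_le.trans (Nat.mul_le_mul hix hiy)
  obtain ⟨a, ha⟩ := (hP.to_subgroup D).exists_card_eq
  have ha2 : 2 ≤ a := by
    have h1 := Subgroup.card_mul_index D
    rw [hcard, ha] at h1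
    have h2 : p ^ 4 ≤ p ^ (a + 2) := by
      rw [← h1, pow_add, sq]
      exact Nat.mul_le_mul_left _ hiD
    have := (Nat.pow_le_pow_iff_right hp1).1 h2
    omega
  have hxD : x ∉ D := fun h => hxy (Subgroup.mem_centralizer_singleton_iff.1 (hDy h))
  have h12 : D < D ⊔ Subgroup.zpowers x :=
    lt_of_le_of_ne le_sup_left (fun h => hxD (h ▸ (le_sup_right : Subgroup.zpowers x ≤ _)
      (Subgroup.mem_zpowers x)))
  have hD1x : D ⊔ Subgroup.zpowers x ≤ Subgroup.centralizer {x} :=
    sup_le hDx (Subgroup.zpowers_le.2 (Subgroup.mem_centralizer_singleton_iff.2 rfl))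
  have hyD1 : y ∉ D ⊔ Subgroup.zpowers x := fun h =>
    hxy (Subgroup.mem_centralizer_singleton_iff.1 (hD1x h)).symm
  have h23 : D ⊔ Subgroup.zpowers x < D ⊔ Subgroup.zpowers x ⊔ Subgroup.zpowers y :=
    lt_of_le_of_ne le_sup_left (fun h => hyD1 (h ▸ (le_sup_right : Subgroup.zpowers y ≤ _)
      (Subgroup.mem_zpowers y)))
  obtain ⟨b, hb⟩ := (hP.to_subgroup (D ⊔ Subgroup.zpowers x)).exists_card_eq
  obtain ⟨c, hc⟩ := (hP.to_subgroup (D ⊔ Subgroup.zpowers x ⊔ Subgroup.zpowers y)).exists_card_eq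
  have e1 := Helper86.card_lt_of_lt h12
  have e2 := Helper86.card_lt_of_lt h23
  have e3 := Subgroup.card_le_card_group (D ⊔ Subgroup.zpowers x ⊔ Subgroup.zpowers y)
  rw [ha, hb] at e1
  rw [hb, hc] at e2
  rw [hc, hcard] at e3
  have f1 := (Nat.pow_lt_pow_iff_right hp1).1 e1
  have f2 := (Nat.pow_lt_pow_iff_right hp1).1 e2
  have f3 := (Nat.pow_le_pow_iff_right hp1).1 e3
  have ha' : a = 2 := by omega
  have hc' : c = 4 := by omega
  subst ha' hc'
  have htop : D ⊔ Subgroup.zpowers x ⊔ Subgroup.zpowers y = ⊤ :=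
    Subgroup.eq_top_of_card_eq _ (by rw [hc, hcard])
  have hab := (IsPGroup.isMulCommutative_of_card_eq_prime_sq ha).is_comm.comm
  have hDZ : D ≤ Subgroup.center P := by
    intro d hd
    have h1 : D ⊔ Subgroup.zpowers x ⊔ Subgroup.zpowers y ≤ Subgroup.centralizer {d} := by
      refine sup_le (sup_le ?_ ?_) ?_
      · intro d' hd'
        rw [Subgroup.mem_centralizer_singleton_iff]
        exact congrArg Subtype.val (hab ⟨d', hd'⟩ ⟨d, hd⟩)
      · rw [Subgroup.zpowers_le, Subgroup.mem_centralizer_singleton_iff]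
        exact (Subgroup.mem_centralizer_singleton_iff.1 (hDx hd)).symm
      · rw [Subgroup.zpowers_le, Subgroup.mem_centralizer_singleton_iff]
        exact (Subgroup.mem_centralizer_singleton_iff.1 (hDy hd)).symm
    rw [htop] at h1
    rw [Subgroup.mem_center_iff]
    intro g
    exact Subgroup.mem_centralizer_singleton_iff.1 (h1 (Subgroup.mem_top g))
  have hZD : Subgroup.center P ≤ D := by
    intro z hz
    rw [hD]
    exact Subgroup.mem_inf.2 ⟨Subgroup.mem_centralizer_singleton_iff.2 (Subgroup.mem_center_iff.1 hz x).symm,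
      Subgroup.mem_centralizer_singleton_iff.2 (Subgroup.mem_center_iff.1 hz y).symm⟩
  rw [le_antisymm hZD hDZ, ha]

theorem pow_eq_one_of_not_cyclic {Z : Type*} [Group Z] [Finite Z] (hc : Nat.card Z = p ^ 2)
    (hnc : ¬ IsCyclic Z) (z : Z) : z ^ p = 1 := by
  by_contra hz
  apply hnc
  have hz2 : z ^ p ^ 2 = 1 := by rw [← hc]; exact pow_card_eq_one'
  have ho : orderOf z = p ^ 2 :=
    orderOf_eq_prime_pow (p := p) (n := 1) (x := z) (by simpa using hz) (by simpa using hz2)
  exact isCyclic_of_orderOf_eq_card z (by rw [ho, hc])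

/-- Splitting off a direct factor of order `p`. -/
theorem split_nonabelian (hP : IsPGroup p P) (hcard : Nat.card P = p ^ 4)
    (hΦ : Nat.card (frattini P) = p) (hna : ∃ x y : P, x * y ≠ y * x)
    (hZe : ∀ z ∈ Subgroup.center P, z ^ p = 1) :
    ∃ M : Subgroup P, Nat.card M = p ^ 3 ∧ Nat.card (frattini M) = p ∧ (∃ a b : M, a * b ≠ b * a) ∧
      Nonempty (P ≃* M × Multiplicative (ZMod p)) := by
  have hp1 := hp.out.one_lt
  have hcZ := card_center hP hcard hΦ hna
  obtain ⟨t, htZ, htΦ⟩ : ∃ t ∈ Subgroup.center P, t ∉ frattini P := by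
    by_contra hcon
    push Not at hcon
    have h4 : Subgroup.center P ≤ frattini P := hcon
    have h5 := Subgroup.card_le_of_le h4
    rw [hΦ, hcZ] at h5
    have : p < p ^ 2 := by
      calc p = p ^ 1 := (pow_one p).symm
        _ < p ^ 2 := Nat.pow_lt_pow_right hp1 (by omega)
    omega
  obtain ⟨M, hidx, htM, ⟨e⟩⟩ := exists_split hP htZ (hZe t htZ) htΦ
  have hcM : Nat.card M = p ^ 3 := by
    have h4 := Subgroup.card_mul_index M
    rw [hidx, hcard, pow_succ] at h4
    exact Nat.eq_of_mul_eq_mul_right hp.out.pos h4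
  have hnaM : ∃ a b : M, a * b ≠ b * a := by
    by_contra hcon
    push Not at hcon
    obtain ⟨x, y, hxy⟩ := hna
    apply hxy
    apply e.injective
    rw [map_mul, map_mul]
    exact Prod.ext (hcon _ _) (mul_comm _ _)
  refine ⟨M, hcM, card_frattini_subgroup hP hΦ M ?_, hnaM, ⟨e⟩⟩
  intro hb
  obtain ⟨a, b, hne⟩ := hnaM
  apply hne
  have h1 := comm_mem_frattini (hP.to_subgroup M) a b
  rw [hb, Subgroup.mem_bot] at h1
  calc a * b = (a * b * a⁻¹ * b⁻¹) * (b * a) := by group
    _ = b * a := by rw [h1, one_mul]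

theorem odd_case (hP : IsPGroup p P) (hcard : Nat.card P = p ^ 4)
    (hΦ : Nat.card (frattini P) = p) (hna : ∃ x y : P, x * y ≠ y * x) (hp2 : p ≠ 2)
    (hZe : ∀ z ∈ Subgroup.center P, z ^ p = 1) :
    HasFlag3 p P ∨ ∃ (E : Type) (_ : Group E) (_ : Finite E), Cfsg.IsExtraspecial p E ∧ Nat.card E = p ^ 3 ∧
        (∀ x : E, x ^ p = 1) ∧ Nonempty (P ≃* E × Multiplicative (ZMod p)) := by
  have hcZ := card_center hP hcard hΦ hna
  by_cases hexp : ∀ g : P, g ^ p = 1
  · right
    obtain ⟨M, hcM, hΦM, hnaM, ⟨e⟩⟩ := split_nonabelian hP hcard hΦ hna hZe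
    have hes := extraspecial_of_cube (hP.to_subgroup M) hcM hΦM hnaM
    obtain ⟨E, iG, iF, ⟨ε⟩⟩ := exists_small_model M
    refine ⟨E, iG, iF, Helper67.isExtraspecial_of_mulEquiv ε hes, ?_, ?_, ?_⟩
    · rw [← hcM]
      exact (Nat.card_congr ε.toEquiv).symm
    · intro x
      apply ε.symm.injective
      rw [map_pow, map_one]
      exact Subtype.ext (hexp _)
    · exact ⟨e.trans (MulEquiv.prodCongr ε (MulEquiv.refl _))⟩
  · left
    have hpow : ∀ x y : P, (x * y) ^ p = x ^ p * y ^ p := by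
      intro x y
      obtain ⟨k, hk⟩ : ∃ k : P, k = y⁻¹ * x⁻¹ * y⁻¹⁻¹ * x⁻¹⁻¹ := ⟨_, rfl⟩
      have hkΦ : k ∈ frattini P := hk ▸ comm_mem_frattini hP _ _
      have hkp : k ^ p = 1 := frattini_pow hΦ k hkΦ
      have c := frattini_central hP hΦ k hkΦ
      rw [Helper15.Repl.mul_pow_of_central (k := k) (by rw [hk]; group) (c x).symm (c y).symm p]
      obtain ⟨j, hj⟩ := hp.out.dvd_choose_self (k := 2) (by norm_num)
        (lt_of_le_of_ne hp.out.two_le (Ne.symm hp2))
      rw [hj, pow_mul, hkp, one_pow, mul_one]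
    let φ : P →* P :=
      { toFun := fun x => x ^ p
        map_one' := one_pow p
        map_mul' := hpow }
    have hne : φ.ker ≠ ⊤ := by
      intro h
      apply hexp
      intro g
      have : g ∈ φ.ker := h ▸ Subgroup.mem_top g
      exact this
    refine ⟨Subgroup.center P, φ.ker, inferInstance, ?_, frattini_le_center hP hΦ, ?_, ?_, ?_, ?_⟩
    · rw [Subgroup.characteristic_iff_le_comap]
      intro α x hx
      have hx' : x ^ p = 1 := hx
      show (α x) ^ p = 1
      rw [← map_pow, hx', map_one]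
    · intro z hz
      exact hZe z hz
    · rw [hcZ, hΦ, sq]
    · rw [hcZ, ← pow_succ']
      exact card_le_of_ne_top hP hcard hne
    · rw [← Subgroup.card_mul_index φ.ker, mul_comm, Subgroup.index_ker]
      apply Nat.mul_le_mul_right
      rw [← hΦ]
      apply Subgroup.card_le_of_le
      rintro _ ⟨x, rfl⟩
      exact Helper3.pow_p_mem_frattini hP x

end Cfsg.Agent.Lib.Helper86.Quartic
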