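import Cfsg.Agent.Lib.Helper86.Quartic.NonAb

set_option autoImplicit false
set_option linter.unusedSectionVars false

/-! Non-abelian groups of order `16` with Frattini subgroup of order `2` and elementary abelian centre. -/

namespace Cfsg.Agent.Lib.Helper86.Quartic

open Cfsg Cfsg.Agent.Lib Cfsg.Agent.Lib.Helper16.Ess

variable {P : Type*} [Group P] [Finite P]

theorem comm_of_sq (h : ∀ g : P, g ^ 2 = 1) (x y : P) : x * y = y * x := by
  have hx := h x
  have hy := h y
  have hxy := h (x * y)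
  have e1 : x⁻¹ = x := by rw [inv_eq_iff_mul_eq_one, ← sq, hx]
  have e2 : y⁻¹ = y := by rw [inv_eq_iff_mul_eq_one, ← sq, hy]
  have e3 : (x * y)⁻¹ = x * y := by rw [inv_eq_iff_mul_eq_one, ← sq, hxy]
  rw [mul_inv_rev, e1, e2] at e3
  exact e3.symm

theorem two_case (hP : IsPGroup 2 P) (hcard : Nat.card P = 2 ^ 4) (hΦ : Nat.card (frattini P) = 2)
    (hna : ∃ x y : P, x * y ≠ y * x) (hZe : ∀ z ∈ Subgroup.center P, z ^ 2 = 1) :
    HasFlag3 2 P ∨ Nonempty (P ≃* QuaternionGroup 2 × Multiplicative (ZMod 2)) := by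
  have : Fact (Nat.Prime 2) := ⟨Nat.prime_two⟩
  have hcZ := card_center hP hcard hΦ hna
  obtain ⟨M₂, hM₂⟩ : ∃ M₂ : Subgroup P,
    M₂ = Subgroup.closure {g : P | g ^ 2 ≠ 1} ⊔ Subgroup.center P := ⟨_, rfl⟩
  have hT : ∀ g : P, g ^ 2 ≠ 1 → g ∈ M₂ := by
    intro g hg
    rw [hM₂]
    exact (le_sup_left : Subgroup.closure {g : P | g ^ 2 ≠ 1} ≤ _) (Subgroup.subset_closure hg)
  have hZM : Subgroup.center P ≤ M₂ := hM₂ ▸ le_sup_right
  by_cases htop : M₂ = ⊤
  · right
    obtain ⟨a, b, ha, hb, hab⟩ : ∃ a b : P, a ^ 2 ≠ 1 ∧ b ^ 2 ≠ 1 ∧ a * b ≠ b * a := by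
      by_contra hcon
      push Not at hcon
      have h1 : ∀ g : P, g ^ 2 ≠ 1 → g ∈ Subgroup.center P := by
        intro g hg
        have h2 : M₂ ≤ Subgroup.centralizer {g} := by
          rw [hM₂]
          refine sup_le ((Subgroup.closure_le _).2 ?_) ?_
          · intro k hk
            exact Subgroup.mem_centralizer_singleton_iff.2 (hcon k g hk hg)
          · intro z hz
            exact Subgroup.mem_centralizer_singleton_iff.2 (Subgroup.mem_center_iff.1 hz g).symm
        rw [htop] at h2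
        rw [Subgroup.mem_center_iff]
        intro k
        exact Subgroup.mem_centralizer_singleton_iff.1 (h2 (Subgroup.mem_top k))
      have h3 : ∀ g : P, g ^ 2 = 1 := by
        intro g
        by_contra hg
        exact hg (hZe g (h1 g hg))
      obtain ⟨x, y, hne⟩ := hna
      exact hne (comm_of_sq h3 x y)
    obtain ⟨M, hcM, hΦM, hnaM, ⟨e⟩⟩ := split_nonabelian hP hcard hΦ hna hZe
    obtain ⟨A, hA⟩ : ∃ A : M, A = (e a).1 := ⟨_, rfl⟩
    obtain ⟨B, hB⟩ : ∃ B : M, B = (e b).1 := ⟨_, rfl⟩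
    have hPM := hP.to_subgroup M
    have hA2 : A ^ 2 ≠ 1 := by
      intro h
      apply ha
      apply e.injective
      rw [map_pow, map_one]
      exact Prod.ext (by rw [Prod.pow_fst, ← hA, h]; rfl) (pow_zmod _)
    have hB2 : B ^ 2 ≠ 1 := by
      intro h
      apply hb
      apply e.injective
      rw [map_pow, map_one]
      exact Prod.ext (by rw [Prod.pow_fst, ← hB, h]; rfl) (pow_zmod _)
    have hAB : B * A ≠ A * B := by
      intro h
      apply hab
      apply e.injective
      rw [map_mul, map_mul]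
      exact Prod.ext (by rw [Prod.fst_mul, Prod.fst_mul, ← hA, ← hB, h]) (mul_comm _ _)
    have hsq : ∀ x : M, x ^ 2 ∈ frattini M := fun x => Helper3.pow_p_mem_frattini hPM x
    have hA4 : A ^ 4 = 1 := by
      have := frattini_pow hΦM _ (hsq A)
      rw [← pow_mul] at this
      exact this
    have hoA : orderOf A = 4 := by
      have := orderOf_eq_prime_pow (p := 2) (n := 1) (x := A) (by simpa using hA2) (by simpa using hA4)
      simpa using this
    have hBA : B ^ 2 = A ^ 2 := eq_of_card_two hΦM (hsq B) (hsq A) hB2 hA2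
    have hc1 : B * A * B⁻¹ * A⁻¹ ≠ 1 := by
      intro h
      apply hAB
      calc B * A = (B * A * B⁻¹ * A⁻¹) * (A * B) := by group
        _ = A * B := by rw [h, one_mul]
    have hc : B * A * B⁻¹ * A⁻¹ = A ^ 2 :=
      eq_of_card_two hΦM (comm_mem_frattini hPM B A) (hsq A) hc1 hA2
    have hinv : B * A * B⁻¹ = A⁻¹ := by
      have e1 : B * A * B⁻¹ = (B * A * B⁻¹ * A⁻¹) * A := by group
      rw [e1, hc, eq_inv_iff_mul_eq_one, ← pow_succ, ← pow_succ]
      exact hA4
    have hBz : B ∉ Subgroup.zpowers A := by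
      intro h
      obtain ⟨i, rfl⟩ := Subgroup.mem_zpowers_iff.1 h
      apply hAB
      rw [← zpow_add_one, ← zpow_one_add, add_comm]
    obtain ⟨ε⟩ := Helper59.quaternion_recog 2 (by norm_num) A B (by rw [hoA]) (by rw [← sq, hBA]) hinv hBz
      (by rw [hcM]; norm_num)
    exact ⟨e.trans (MulEquiv.prodCongr ε (MulEquiv.refl _))⟩
  · left
    obtain ⟨g, hg⟩ : ∃ g : P, g ^ 2 ≠ 1 := by
      by_contra hcon
      push Not at hcon
      obtain ⟨x, y, hne⟩ := hna
      exact hne (comm_of_sq hcon x y)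
    have hgZ : g ∉ Subgroup.center P := fun h => hg (hZe g h)
    have hlt : Subgroup.center P < M₂ := lt_of_le_of_ne hZM (fun h => hgZ (h ▸ hT g hg))
    have hcM₂ := card_eq_of_lt_lt hP hlt (lt_top_iff_ne_top.2 htop) (a := 2) hcZ
      (by rw [Subgroup.card_top, hcard])
    refine ⟨Subgroup.center P, M₂, inferInstance, ?_, frattini_le_center hP hΦ, hZM, ?_, ?_, ?_⟩
    · rw [Subgroup.characteristic_iff_map_le]
      intro α
      rw [hM₂, Subgroup.map_sup]
      apply sup_le_sup
      · rw [MonoidHom.map_closure, Subgroup.closure_le]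
        rintro _ ⟨x, hx, rfl⟩
        apply Subgroup.subset_closure
        show (α x) ^ 2 ≠ 1
        intro h
        apply hx
        rw [← map_pow] at h
        exact (map_eq_one_iff α α.injective).1 h
      · exact (Subgroup.characteristic_iff_map_le.1 inferInstance) α
    · rw [hcZ, hΦ]; norm_num
    · rw [hcM₂, hcZ]; norm_num
    · rw [hcM₂, hcard]; norm_num

end Cfsg.Agent.Lib.Helper86.Quartic
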